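import Groth.Agent.SigmaLinLib.Local
import Groth.Prelude.Def_WittGrp

/-!
# The hypotheses of Lang's lemma for Frobenius and its inverse, and truncated Witt vectors
-/

namespace Groth.Agent.SigmaLinLib

universe u v

open Polynomial

variable {k : Type u} [Field k]

theorem exists_root_ne_zero [IsAlgClosed k] (P : k[X]) {i j : ℕ} (hij : i ≠ j) (hi : P.coeff i ≠ 0)
    (hj : P.coeff j ≠ 0) : ∃ x, x ≠ 0 ∧ P.eval x = 0 := by
  have hP : P ≠ 0 := fun h => hi (by rw [h, coeff_zero])
  obtain ⟨Q, hQ, hQX⟩ := exists_eq_pow_rootMultiplicity_mul_and_not_dvd P hP 0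
  rw [map_zero, sub_zero] at hQ hQX
  have hdeg : Q.degree ≠ 0 := fun h => by
    rw [eq_C_of_degree_eq_zero h, mul_comm, C_mul_X_pow_eq_monomial] at hQ
    rw [hQ, coeff_monomial, ne_eq, ite_eq_right_iff, Classical.not_imp] at hi hj
    exact hij (hi.1.symm.trans hj.1)
  obtain ⟨x, hx⟩ := IsAlgClosed.exists_root Q hdeg
  refine ⟨x, fun h => hQX ?_, by rw [hQ, eval_mul, hx.eq_zero, mul_zero]⟩
  subst h
  rw [X_dvd_iff, coeff_zero_eq_eval_zero, hx.eq_zero]

variable (p : ℕ) [hp : Fact p.Prime] [CharP k p]

theorem H2_frobenius [IsAlgClosed k] : H2 (frobenius k p) := by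
  intro n b hb
  classical
  obtain ⟨i₀, hi₀⟩ : ∃ i, b i ≠ 0 := Function.ne_iff.1 hb
  let c : Fin (n + 1) → k := fun i => (⇑(frobenius k p))^[i.val] (b (Fin.rev i))
  let P : k[X] := X - ∑ i : Fin (n + 1), C (c i) * X ^ p ^ (i.val + 1)
  have hne : ∀ i : Fin (n + 1), p ^ (i.val + 1) ≠ 1 := fun i => (Nat.one_lt_pow (by omega) hp.out.one_lt).ne'
  have h1 : P.coeff 1 = 1 := by
    simp only [P, coeff_sub, coeff_X_one, finsetSum_coeff, coeff_C_mul, coeff_X_pow]
    rw [Finset.sum_eq_zero fun i _ => by rw [if_neg (hne i).symm, mul_zero], sub_zero]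
  have h2 : P.coeff (p ^ ((Fin.rev i₀).val + 1)) = - c (Fin.rev i₀) := by
    simp only [P, coeff_sub, coeff_X, finsetSum_coeff, coeff_C_mul, coeff_X_pow]
    rw [if_neg (hne _).symm, Finset.sum_eq_single (Fin.rev i₀), if_pos rfl, mul_one, zero_sub]
    · intro i _ hi
      rw [if_neg, mul_zero]
      intro h
      exact hi (Fin.ext (Nat.succ_injective (Nat.pow_right_injective hp.out.two_le h).symm))
    · simp
  obtain ⟨x, hx0, hx⟩ := exists_root_ne_zero P (hne (Fin.rev i₀)).symm (by rw [h1]; exact one_ne_zero) (by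
    rw [h2, neg_ne_zero]
    simp only [c, iterate_frobenius, Fin.rev_rev]
    exact pow_ne_zero _ hi₀)
  refine ⟨x, hx0, ?_⟩
  simp only [P, eval_sub, eval_X, eval_finsetSum, eval_mul, eval_C, eval_pow, sub_eq_zero] at hx
  conv_lhs => rw [hx]
  refine Finset.sum_congr rfl fun i _ => ?_
  rw [iterate_frobenius (R := k) p (i.val + 1), mul_comm]

theorem H3_frobenius [IsAlgClosed k] (c : k) : ∃ y, frobenius k p y - y + c = 0 := by
  obtain ⟨y, hy⟩ := IsAlgClosed.exists_root (X ^ p - X + C c : k[X]) (by
    rw [show (X ^ p - X + C c : k[X]) = X ^ p + (C c - X) by ring, degree_add_eq_left_of_degree_lt] <;>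
      rw [degree_X_pow]
    · exact_mod_cast hp.out.ne_zero
    · refine lt_of_le_of_lt ((degree_sub_le _ _).trans (max_le (degree_C_le.trans zero_le_one) degree_X_le)) ?_
      exact_mod_cast hp.out.one_lt)
  exact ⟨y, by simpa [frobenius_def] using hy⟩

variable [IsAlgClosed k]

theorem H3_symm (c : k) : ∃ y, (frobeniusEquiv k p).symm.toRingHom y - y + c = 0 := by
  obtain ⟨y, hy⟩ := H3_frobenius p (-c)
  refine ⟨frobenius k p y, ?_⟩
  show (frobeniusEquiv k p).symm (frobenius k p y) - _ + c = 0
  rw [frobeniusEquiv_symm_apply_frobenius]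
  linear_combination -hy

theorem H2_symm : H2 (frobeniusEquiv k p).symm.toRingHom := by
  intro n b hb
  classical
  set φ := (frobeniusEquiv k p).symm.toRingHom
  obtain ⟨i₀, hi₀⟩ : ∃ i, b i ≠ 0 := Function.ne_iff.1 hb
  have hpow : ∀ (j : ℕ) (y : k), (⇑φ)^[j] y ^ p ^ j = y := fun j => by
    induction j with
    | zero => simp
    | succ j ih =>
      intro y
      rw [pow_succ', pow_mul, Function.iterate_succ_apply',
        show φ ((⇑φ)^[j] y) ^ p = (⇑φ)^[j] y from frobeniusEquiv_symm_pow_p k p _, ih]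
  have hpow' : ∀ (j : ℕ), j ≤ n + 1 → ∀ (y : k), (⇑φ)^[j] y ^ p ^ (n + 1) = y ^ p ^ (n + 1 - j) := fun j hj y => by
    nth_rw 1 [show n + 1 = j + (n + 1 - j) by omega]
    rw [pow_add, pow_mul, hpow]
  let c : Fin (n + 1) → k := fun i => b (Fin.rev i) ^ p ^ (n + 1 - i.val)
  let P : k[X] := X ^ p ^ (n + 1) - ∑ i : Fin (n + 1), C (c i) * X ^ p ^ (n - i.val)
  have hne : ∀ i : Fin (n + 1), p ^ (n - i.val) ≠ p ^ (n + 1) := fun i =>
    (Nat.pow_lt_pow_right hp.out.one_lt (by omega)).ne
  have h1 : P.coeff (p ^ (n + 1)) = 1 := by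
    simp only [P, coeff_sub, finsetSum_coeff, coeff_C_mul, coeff_X_pow]
    rw [if_pos trivial, Finset.sum_eq_zero fun i _ => by rw [if_neg (hne i).symm, mul_zero], sub_zero]
  have h2 : P.coeff (p ^ (n - (Fin.rev i₀).val)) = - c (Fin.rev i₀) := by
    simp only [P, coeff_sub, finsetSum_coeff, coeff_C_mul, coeff_X_pow]
    rw [if_neg (hne _), Finset.sum_eq_single (Fin.rev i₀), if_pos rfl, mul_one, zero_sub]
    · intro i _ hi
      rw [if_neg, mul_zero]
      intro h
      have := Nat.pow_right_injective hp.out.two_le h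
      exact hi (Fin.ext (by have := i.2; have := (Fin.rev i₀).2; omega))
    · simp
  obtain ⟨x, hx0, hx⟩ := exists_root_ne_zero P (hne (Fin.rev i₀)).symm (by rw [h1]; exact one_ne_zero) (by
    rw [h2, neg_ne_zero]
    simp only [c, Fin.rev_rev]
    exact pow_ne_zero _ hi₀)
  refine ⟨x, hx0, iterateFrobenius_inj k p (n + 1) ?_⟩
  simp only [P, eval_sub, eval_X, eval_finsetSum, eval_mul, eval_C, eval_pow, sub_eq_zero] at hx
  rw [map_sum, iterateFrobenius_def, hx]
  refine Finset.sum_congr rfl fun i _ => ?_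
  rw [map_mul, iterateFrobenius_def, iterateFrobenius_def, hpow' _ (by omega), hpow' _ (by omega),
    show n + 1 - (i.val + 1) = n - i.val by omega, mul_comm]

theorem finite_fixed_symm : {c : k | (frobeniusEquiv k p).symm.toRingHom c = c}.Finite := by
  refine ((X ^ p - X : k[X]).finite_setOf_isRoot ?_).subset fun c hc => ?_
  · exact FiniteField.X_pow_card_sub_X_ne_zero k hp.out.one_lt
  · have h : c ^ p = c := by
      conv_lhs => rw [show c = (frobeniusEquiv k p).symm c from hc.symm]
      exact frobeniusEquiv_symm_pow_p k p c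
    simp [IsRoot, h]

theorem finite_fixed_frobenius : {c : k | frobenius k p c = c}.Finite := by
  refine ((X ^ p - X : k[X]).finite_setOf_isRoot (FiniteField.X_pow_card_sub_X_ne_zero k hp.out.one_lt)).subset
    fun c hc => ?_
  rw [Set.mem_setOf_eq, frobenius_def] at hc
  simp [IsRoot, hc]

/-- Packaging of `surjective_sub` and `finite_fixed` for truncated Witt vectors. -/
theorem witt_lang (n : ℕ) (σ : TruncatedWittVector p n k →+* TruncatedWittVector p n k)
    (hσ : σ = WittGrp.truncMap p n (frobenius k p) ∨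
      σ = WittGrp.truncMap p n (frobeniusEquiv k p).symm.toRingHom)
    {M : Type v} [AddCommGroup M] [Module (TruncatedWittVector p n k) M]
    [Module.Finite (TruncatedWittVector p n k) M] (T : M →ₛₗ[σ] M) :
    Function.Surjective (fun m : M => m - T m) ∧ {m : M | T m = m}.Finite := by
  rcases n with _ | n
  · have : Subsingleton (TruncatedWittVector p 0 k) := ⟨fun a b => TruncatedWittVector.ext fun i => i.elim0⟩
    have : Subsingleton M := Module.subsingleton (TruncatedWittVector p 0 k) M
    exact ⟨fun m => ⟨m, Subsingleton.elim _ _⟩, Set.toFinite _⟩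
  let R := TruncatedWittVector p (n + 1) k
  let tr : WittVector p k →+* R := WittVector.truncate (n + 1)
  have htr : Function.Surjective tr := WittVector.truncate_surjective p (n + 1) k
  haveI : Nontrivial R := ⟨0, 1, fun h => by
    have := congrArg (fun x : R => x.coeff 0) h
    simp only [TruncatedWittVector.coeff_zero] at this
    rw [← map_one tr, WittVector.coeff_truncate, Fin.val_zero, WittVector.one_coeff_zero] at this
    exact zero_ne_one this⟩
  haveI : IsLocalRing R := IsLocalRing.of_surjective' tr htr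
  have hW : IsLocalRing.maximalIdeal (WittVector p k) = Ideal.span {(p : WittVector p k)} :=
    (WittVector.irreducible p).maximalIdeal_eq
  have hmax : IsLocalRing.maximalIdeal R = Ideal.span {(p : R)} := by
    haveI : IsLocalHom tr := IsLocalRing.local_hom_TFAE tr |>.out 3 0 |>.1 (by
      refine le_of_eq (IsLocalRing.eq_maximalIdeal ?_).symm
      exact Ideal.comap_isMaximal_of_surjective tr htr)
    rw [← Ideal.map_comap_of_surjective tr htr (IsLocalRing.maximalIdeal R),
      IsLocalRing.eq_maximalIdeal (Ideal.comap_isMaximal_of_surjective tr htr), hW, Ideal.map_span,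
      Set.image_singleton, map_natCast]
  have hpn : (p : R) ^ (n + 1) = 0 := by
    rw [← map_natCast tr, ← map_pow]
    refine RingHom.mem_ker.1 ((WittVector.mem_ker_truncate (n + 1) _).2 fun i hi => ?_)
    rw [← one_mul ((p : WittVector p k) ^ (n + 1))]
    exact WittVector.mul_pow_charP_coeff_zero _ (by omega)
  -- the zeroth coefficient
  let c : R →+* k := tr.liftOfSurjective htr ⟨WittVector.constantCoeff, fun X hX => by
    rw [RingHom.mem_ker] at hX ⊢
    exact (WittVector.mem_ker_truncate (n + 1) X).1 hX 0 (by omega)⟩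
  have hc : ∀ x : R, c x = x.coeff 0 := fun x => by
    obtain ⟨X, rfl⟩ := htr x
    rw [RingHom.liftOfRightInverse_comp_apply, WittVector.coeff_truncate]
    rfl
  have hcs : Function.Surjective c := fun a => ⟨tr (WittVector.teichmuller p a), by
    rw [hc, WittVector.coeff_truncate]; exact WittVector.teichmuller_coeff_zero p a⟩
  have hck : RingHom.ker c = IsLocalRing.maximalIdeal R :=
    IsLocalRing.eq_maximalIdeal (RingHom.ker_isMaximal_of_surjective c hcs)
  let e : IsLocalRing.ResidueField R ≃+* k :=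
    (Ideal.quotEquivOfEq hck.symm).trans (RingHom.quotientKerEquivOfSurjective hcs)
  have he : ∀ x, e (IsLocalRing.residue R x) = c x := fun x => rfl
  haveI : CharP (IsLocalRing.ResidueField R) p := (RingHom.charP_iff e.toRingHom e.injective p).2 inferInstance
  haveI : IsAlgClosed (IsLocalRing.ResidueField R) := IsAlgClosed.of_ringEquiv k _ e.symm
  rcases hσ with rfl | rfl
  · let σbar := frobenius (IsLocalRing.ResidueField R) p
    have hσbar : ∀ r, σbar (IsLocalRing.residue R r) = IsLocalRing.residue R (WittGrp.truncMap p (n + 1) (frobenius k p) r) := fun r =>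
      e.injective (by rw [frobenius_def, map_pow, he, he, hc, hc, WittGrp.coeff_truncMap, frobenius_def])
    exact ⟨surjective_sub T (p : R) (map_natCast _ p) hmax σbar hσbar hpn (frobeniusEquiv _ p).surjective (H2_frobenius p) (H3_frobenius p),
      finite_fixed T (p : R) (map_natCast _ p) hmax σbar hσbar hpn (frobeniusEquiv _ p).surjective (H2_frobenius p) (H3_frobenius p) (finite_fixed_frobenius p)⟩
  · let σbar := (frobeniusEquiv (IsLocalRing.ResidueField R) p).symm.toRingHom
    have hσbar : ∀ r, σbar (IsLocalRing.residue R r) = IsLocalRing.residue R (WittGrp.truncMap p (n + 1) (frobeniusEquiv k p).symm.toRingHom r) := fun r => by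
      refine frobenius_inj _ p ?_
      refine (frobeniusEquiv_symm_pow_p _ p _).trans (e.injective ?_)
      rw [frobenius_def, map_pow, he, he, hc, hc, WittGrp.coeff_truncMap]
      exact (frobeniusEquiv_symm_pow_p k p _).symm
    exact ⟨surjective_sub T (p : R) (map_natCast _ p) hmax σbar hσbar hpn (frobeniusEquiv _ p).symm.surjective (H2_symm p) (H3_symm p),
      finite_fixed T (p : R) (map_natCast _ p) hmax σbar hσbar hpn (frobeniusEquiv _ p).symm.surjective (H2_symm p) (H3_symm p) (finite_fixed_symm p)⟩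

end Groth.Agent.SigmaLinLib
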