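import Groth.Agent.SigmaLinLib.Field

/-!
# Semilinear endomorphisms over artinian local rings with maximal ideal (p)
-/

namespace Groth.Agent.SigmaLinLib

universe u v

section FixedField

variable {k : Type u} [Field k] {σ : k →+* k} {V : Type v} [AddCommGroup V] [Module k V]
  [FiniteDimensional k V] (T : V →ₛₗ[σ] V)

/-- Fixed vectors are combinations with fixed coefficients of finitely many fixed vectors. -/
theorem fixed_fg (hσ : Function.Surjective σ) (h2 : H2 σ) (h3 : ∀ c : k, ∃ y : k, σ y - y + c = 0) :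
    ∃ (n : ℕ) (b : Fin n → V), (∀ i, T (b i) = b i) ∧
      ∀ v, T v = v → ∃ c : Fin n → k, (∀ i, σ (c i) = c i) ∧ v = ∑ i, c i • b i := by
  obtain ⟨-, b, hb⟩ := lang T hσ h2 h3
  refine ⟨_, fun i => (b i : V), hb, fun v hv => ?_⟩
  let w : ↥(⨅ n, W T n) := ⟨v, fixed_mem_iInf T hv⟩
  have hexp : v = ∑ i, b.repr w i • (b i : V) := by
    have := congrArg Subtype.val (b.sum_repr w)
    simp only [Submodule.coe_sum, SetLike.val_smul] at this
    exact this.symm
  refine ⟨fun i => b.repr w i, fun i => ?_, hexp⟩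
  have h1 : T v = ∑ i, σ (b.repr w i) • (b i : V) := by
    conv_lhs => rw [hexp]
    simp only [map_sum, LinearMap.map_smulₛₗ, hb]
  have h2' : ∑ j, σ (b.repr w j) • b j = ∑ j, b.repr w j • b j := Subtype.ext (by
    simp only [Submodule.coe_sum, SetLike.val_smul]
    rw [← h1, hv, ← hexp])
  have := congrArg (fun z => b.repr z i) h2'
  simpa [Finsupp.single_apply] using this

theorem fixed_finite (hσ : Function.Surjective σ) (h2 : H2 σ) (h3 : ∀ c : k, ∃ y : k, σ y - y + c = 0)
    (hfix : {c : k | σ c = c}.Finite) : {v : V | T v = v}.Finite := by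
  obtain ⟨n, b, hb, hgen⟩ := fixed_fg T hσ h2 h3
  have : Finite {c : k | σ c = c} := hfix.to_subtype
  refine (Set.finite_range (fun c : Fin n → {c : k | σ c = c} => ∑ i, (c i : k) • b i)).subset fun v hv => ?_
  obtain ⟨c, hc, rfl⟩ := hgen v hv
  exact ⟨fun i => ⟨c i, hc i⟩, rfl⟩

end FixedField

theorem mem_span_smul {R : Type u} [CommRing R] {M : Type v} [AddCommGroup M] [Module R M] {r : R}
    {N : Submodule R M} {x : M} (hx : x ∈ (Ideal.span {r} : Ideal R) • N) : ∃ c ∈ N, r • c = x := by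
  rw [Submodule.ideal_span_singleton_smul] at hx
  exact (Submodule.mem_smul_pointwise_iff_exists _ _ _).1 hx

section Loc

variable {R : Type u} [CommRing R] {σ : R →+* R} {M : Type v} [AddCommGroup M] [Module R M] (T : M →ₛₗ[σ] M)
  (p : R) (hσp : σ p = p)

include hσp in
theorem T_pow_smul (i : ℕ) (m : M) : T (p ^ i • m) = p ^ i • T m := by
  rw [LinearMap.map_smulₛₗ, map_pow, hσp]

variable [IsLocalRing R] (hmax : IsLocalRing.maximalIdeal R = Ideal.span {p})
  (σbar : IsLocalRing.ResidueField R →+* IsLocalRing.ResidueField R)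
  (hσbar : ∀ r : R, σbar (IsLocalRing.residue R r) = IsLocalRing.residue R (σ r))

include hσp hmax hσbar in
/-- The induced semilinear map on `M/pM`. -/
theorem exists_bar (N : Submodule R M) (hN : ∀ m ∈ N, T m ∈ N) :
    ∃ (V : Type v) (_ : AddCommGroup V) (_ : Module (IsLocalRing.ResidueField R) V) (q : M →+ V)
      (T' : V →ₛₗ[σbar] V), (∀ (r : R) (m : M), q (r • m) = IsLocalRing.residue R r • q m) ∧
      Function.Surjective q ∧ (∀ m, T' (q m) = q (T m)) ∧
      (∀ m, q m = 0 ↔ m ∈ N ⊔ (Ideal.span {p} : Ideal R) • (⊤ : Submodule R M)) ∧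
      (Module.Finite R M → Module.Finite (IsLocalRing.ResidueField R) V) := by
  let P : Submodule R M := N ⊔ (Ideal.span {p} : Ideal R) • (⊤ : Submodule R M)
  have htors : Module.IsTorsionBySet R (M ⧸ P) (IsLocalRing.maximalIdeal R : Ideal R) := fun x a => by
    obtain ⟨m, rfl⟩ := Submodule.Quotient.mk_surjective P x
    rw [← Submodule.Quotient.mk_smul, Submodule.Quotient.mk_eq_zero]
    refine Submodule.mem_sup_right (Submodule.smul_mem_smul ?_ trivial)
    rw [← hmax]; exact a.2
  let φ : IsLocalRing.ResidueField R →+* AddMonoid.End (M ⧸ P) :=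
    (IsLocalRing.residue R).liftOfSurjective IsLocalRing.residue_surjective
      ⟨Module.toAddMonoidEnd R (M ⧸ P), fun r hr => by
        rw [RingHom.mem_ker] at hr ⊢
        rw [IsLocalRing.residue_eq_zero_iff] at hr
        exact AddMonoidHom.ext fun x => @htors x ⟨r, hr⟩⟩
  let inst : Module (IsLocalRing.ResidueField R) (M ⧸ P) := Module.compHom (M ⧸ P) φ
  have hsmul : ∀ (r : R) (x : M ⧸ P), IsLocalRing.residue R r • x = r • x := fun r x => by
    show φ (IsLocalRing.residue R r) x = r • x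
    rw [show φ (IsLocalRing.residue R r) = Module.toAddMonoidEnd R (M ⧸ P) r from
      RingHom.liftOfRightInverse_comp_apply _ _ _ _ r]
    rfl
  have hT : ∀ m ∈ P, T m ∈ P := fun m hm => by
    obtain ⟨a, ha, b, hb, rfl⟩ := Submodule.mem_sup.1 hm
    rw [map_add]
    refine add_mem (Submodule.mem_sup_left (hN a ha)) (Submodule.mem_sup_right ?_)
    obtain ⟨c, -, rfl⟩ := mem_span_smul hb
    rw [LinearMap.map_smulₛₗ, hσp]
    exact Submodule.smul_mem_smul (Ideal.mem_span_singleton_self p) trivial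
  let T₀ : M ⧸ P →ₛₗ[σ] M ⧸ P := Submodule.mapQ P P T hT
  let T' : M ⧸ P →ₛₗ[σbar] M ⧸ P :=
    { toFun := T₀
      map_add' := map_add T₀
      map_smul' := fun c x => by
        obtain ⟨r, rfl⟩ := IsLocalRing.residue_surjective c
        rw [hsmul, LinearMap.map_smulₛₗ, hσbar, hsmul] }
  refine ⟨M ⧸ P, inferInstance, inst, P.mkQ.toAddMonoidHom, T', fun r m => ?_, P.mkQ_surjective,
    fun m => rfl, fun m => Submodule.Quotient.mk_eq_zero P, fun h => ?_⟩
  · show P.mkQ (r • m) = _
    rw [map_smul, hsmul]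
    rfl
  · haveI := h
    haveI : IsScalarTower R (IsLocalRing.ResidueField R) (M ⧸ P) := ⟨fun r c x => by
      obtain ⟨c, rfl⟩ := IsLocalRing.residue_surjective c
      rw [Algebra.smul_def]
      show (IsLocalRing.residue R r * IsLocalRing.residue R c) • x = r • (IsLocalRing.residue R c • x)
      rw [← map_mul, hsmul, hsmul, mul_smul]⟩
    exact Module.Finite.of_restrictScalars_finite R (IsLocalRing.ResidueField R) (M ⧸ P)

variable {n : ℕ} (hn : p ^ n = 0) [Module.Finite R M]
  (hsurj : Function.Surjective σbar) (h2 : H2 σbar) (h3 : ∀ c, ∃ y, σbar y - y + c = 0)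

include hσp hmax hσbar hn hsurj h2 h3 in
theorem surjective_sub : Function.Surjective (fun m : M => m - T m) := by
  obtain ⟨V, _, _, q, T', hq, hqs, hT', hker, hfin⟩ := exists_bar T p hσp hmax σbar hσbar ⊥ (fun m hm => by
    rw [(Submodule.mem_bot R).1 hm, map_zero]; exact zero_mem _)
  haveI := hfin inferInstance
  have hV := (lang T' hsurj h2 h3).1
  have key : ∀ (j : ℕ) (w : M), ∃ m z, w = (m - T m) + p ^ j • z := fun j => by
    induction j with
    | zero => exact fun w => ⟨0, w, by simp⟩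
    | succ j ih =>
      intro w
      obtain ⟨m, z, rfl⟩ := ih w
      obtain ⟨y, hy⟩ := hV (q z)
      obtain ⟨m', rfl⟩ := hqs y
      have : z - (m' - T m') ∈ (⊥ : Submodule R M) ⊔ (Ideal.span {p} : Ideal R) • (⊤ : Submodule R M) := by
        rw [← hker, map_sub, map_sub, ← hT', sub_eq_zero]
        exact hy.symm
      rw [bot_sup_eq] at this
      obtain ⟨z', -, hz'⟩ := mem_span_smul this
      refine ⟨m + p ^ j • m', z', ?_⟩
      rw [map_add, T_pow_smul T p hσp, pow_succ, mul_smul, hz', smul_sub, smul_sub]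
      abel
  intro w
  obtain ⟨m, z, rfl⟩ := key n w
  exact ⟨m, by rw [hn, zero_smul, add_zero]⟩

include hσp hmax hσbar hn hsurj h2 h3 in
theorem fixed_induction (P : Submodule R M → Prop)
    (h0 : P ⊥)
    (hstep : ∀ (N : Submodule R M), N.FG → (∀ m ∈ N, T m ∈ N) →
      P ((Ideal.span {p} : Ideal R) • N) → P N) :
    P ⊤ := by
  have key : ∀ j ≤ n, P ((Ideal.span {p} : Ideal R) ^ (n - j) • (⊤ : Submodule R M)) := fun j => by
    induction j with
    | zero => intro _; rw [Nat.sub_zero, Ideal.span_singleton_pow, hn, Ideal.span_singleton_eq_bot.2 rfl, Submodule.bot_smul]; exact h0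
    | succ j ih =>
      intro hj
      refine hstep _ ?_ (fun m hm => ?_) ?_
      · rw [Ideal.span_singleton_pow]
        have : (Ideal.span {p ^ (n - (j + 1))} : Ideal R) • (⊤ : Submodule R M) =
            (⊤ : Submodule R M).map (LinearMap.lsmul R M (p ^ (n - (j + 1)))) := by
          refine le_antisymm (fun x hx => ?_) ?_
          · obtain ⟨c, -, rfl⟩ := mem_span_smul hx
            exact ⟨c, trivial, rfl⟩
          · rintro _ ⟨c, -, rfl⟩
            exact Submodule.smul_mem_smul (Ideal.mem_span_singleton_self _) trivial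
        rw [this]
        exact Module.Finite.fg_top.map _
      · rw [Ideal.span_singleton_pow] at hm ⊢
        obtain ⟨c, -, rfl⟩ := mem_span_smul hm
        rw [T_pow_smul T p hσp]
        exact Submodule.smul_mem_smul (Ideal.mem_span_singleton_self _) trivial
      · rw [← Submodule.mul_smul, ← pow_succ', show n - (j + 1) + 1 = n - j by omega]
        exact ih (by omega)
  simpa using key n le_rfl

include hσp hmax hσbar hn hsurj h2 h3 in
theorem finite_fixed (hfix : {c | σbar c = c}.Finite) : {m : M | T m = m}.Finite := by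
  suffices h : {m : M | m ∈ (⊤ : Submodule R M) ∧ T m = m}.Finite by simpa using h
  refine fixed_induction T p hσp hmax σbar hσbar hn hsurj h2 h3
    (fun N => {m : M | m ∈ N ∧ T m = m}.Finite)
    ((Set.finite_singleton (0 : M)).subset fun m hm => (Submodule.mem_bot R).1 hm.1) fun N hNfg hN hfin' => ?_
  obtain ⟨V, _, _, q, T', hq, hqs, hT', hker, hfinV⟩ := exists_bar (M := N)
    (T := (T.comp N.subtype).codRestrict N fun x => hN _ x.2) p hσp hmax σbar hσbar ⊥ (fun m hm => by
      rw [(Submodule.mem_bot R).1 hm, map_zero]; exact zero_mem _)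
  haveI : Module.Finite R N := Module.Finite.of_fg hNfg
  haveI := hfinV inferInstance
  have hVfin := fixed_finite T' hsurj h2 h3 hfix
  have key : ∀ z : V, {m : M | ∃ h : m ∈ N, T m = m ∧ q ⟨m, h⟩ = z}.Finite := fun z => by
    rcases Set.eq_empty_or_nonempty {m : M | ∃ h : m ∈ N, T m = m ∧ q ⟨m, h⟩ = z} with he | ⟨m₀, h₀, hT₀, hq₀⟩
    · rw [he]; exact Set.finite_empty
    · refine (hfin'.image (m₀ + ·)).subset fun m hm => ?_
      obtain ⟨h, hTm, hqm⟩ := hm
      refine ⟨m - m₀, ⟨?_, by rw [map_sub, hTm, hT₀]⟩, add_sub_cancel m₀ m⟩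
      have h1 := (hker (⟨m, h⟩ - ⟨m₀, h₀⟩ : N)).1 (by rw [map_sub, hqm, hq₀, sub_self])
      rw [bot_sup_eq] at h1
      obtain ⟨c, -, hc⟩ := mem_span_smul h1
      rw [show m - m₀ = p • (c : M) from (congrArg Subtype.val hc).symm]
      exact Submodule.smul_mem_smul (Ideal.mem_span_singleton_self p) c.2
  refine (hVfin.biUnion fun z _ => key z).subset fun m hm => Set.mem_biUnion ?_ ⟨hm.1, hm.2, rfl⟩
  show T' (q ⟨m, hm.1⟩) = q ⟨m, hm.1⟩
  rw [hT']
  exact congrArg q (Subtype.ext hm.2)

include hσp hmax hσbar hn hsurj h2 h3 in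
set_option maxHeartbeats 1000000 in
theorem fg_fixed (hlift : ∀ x, σbar x = x → ∃ r : R, σ r = r ∧ IsLocalRing.residue R r = x) :
    ∃ s : Finset M, (∀ m ∈ s, T m = m) ∧
      ∀ m : M, T m = m → ∃ c : M → R, (∀ x ∈ s, σ (c x) = c x) ∧ m = ∑ x ∈ s, c x • x := by
  let R₀ : Subring R := RingHom.eqLocus σ (RingHom.id R)
  let F : Submodule R₀ M :=
    { carrier := {m | T m = m}
      add_mem' := fun {a b} ha hb => by show T (a + b) = a + b; rw [map_add, ha, hb]
      zero_mem' := map_zero T
      smul_mem' := fun r m hm => by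
        show T ((r : R) • m) = (r : R) • m
        rw [LinearMap.map_smulₛₗ, hm, show σ (r : R) = r from r.2] }
  have hfg : (F ⊓ (⊤ : Submodule R M).restrictScalars R₀).FG := by
    refine fixed_induction T p hσp hmax σbar hσbar hn hsurj h2 h3
      (fun N => (F ⊓ N.restrictScalars R₀).FG) (by simp [Submodule.fg_bot]) fun N hNfg hN hfg' => ?_
    obtain ⟨V, _, _, q, T', hq, hqs, hT', hker, hfinV⟩ := exists_bar (M := N)
      (T := (T.comp N.subtype).codRestrict N fun x => hN _ x.2) p hσp hmax σbar hσbar ⊥ (fun m hm => by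
        rw [(Submodule.mem_bot R).1 hm, map_zero]; exact zero_mem _)
    haveI : Module.Finite R N := Module.Finite.of_fg hNfg
    haveI := hfinV inferInstance
    obtain ⟨d, b, hb, hgen⟩ := fixed_fg T' hsurj h2 h3
    let K : Subfield (IsLocalRing.ResidueField R) := RingHom.eqLocusField σbar (RingHom.id _)
    -- the image of the fixed points of `N` in the fixed points of `V`
    letI : Module K V := Module.compHom V K.subtype
    let I : Submodule K V :=
      { carrier := {z | ∃ (m : M) (h : m ∈ N), T m = m ∧ q ⟨m, h⟩ = z}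
        add_mem' := by
          rintro _ _ ⟨a, ha, hTa, rfl⟩ ⟨c, hc, hTc, rfl⟩
          exact ⟨a + c, add_mem ha hc, by rw [map_add, hTa, hTc], map_add q ⟨a, ha⟩ ⟨c, hc⟩⟩
        zero_mem' := ⟨0, zero_mem _, map_zero T, map_zero q⟩
        smul_mem' := by
          rintro c _ ⟨a, ha, hTa, rfl⟩
          obtain ⟨r, hr, hrc⟩ := hlift _ c.2
          refine ⟨r • a, N.smul_mem r ha, by rw [LinearMap.map_smulₛₗ, hTa, hr], ?_⟩
          exact (hq r ⟨a, ha⟩).trans (congrArg (· • q ⟨a, ha⟩) hrc) }
    have hle : I ≤ Submodule.span K (Set.range b) := by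
      rintro _ ⟨a, ha, hTa, rfl⟩
      obtain ⟨c, hc, hac⟩ := hgen (q ⟨a, ha⟩) (by rw [hT']; exact congrArg q (Subtype.ext hTa))
      rw [hac]
      exact Submodule.sum_mem _ fun i _ => Submodule.smul_mem _ (⟨c i, hc i⟩ : K) (Submodule.subset_span ⟨i, rfl⟩)
    haveI : FiniteDimensional K (Submodule.span K (Set.range b)) := FiniteDimensional.span_of_finite K (Set.finite_range b)
    haveI : FiniteDimensional K I := Submodule.finiteDimensional_of_le hle
    obtain ⟨t, ht⟩ := (Submodule.fg_iff_finiteDimensional I).2 inferInstance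
    have hmem : ∀ z ∈ t, z ∈ I := fun z hz => ht ▸ Submodule.subset_span hz
    choose a ha hTa hqa using hmem
    classical
    obtain ⟨s', hs'⟩ := hfg'
    refine ⟨s' ∪ t.attach.image fun z => a z.1 z.2, le_antisymm (Submodule.span_le.2 fun x hx => ?_) fun m hm => ?_⟩
    · rcases Finset.mem_union.1 (Finset.mem_coe.1 hx) with h | h
      · have h1 := (congrArg (x ∈ ·) hs').mp (Submodule.subset_span (Finset.mem_coe.2 h))
        exact ⟨(Submodule.mem_inf.1 h1).1, (Submodule.smul_le_right : _ ≤ N) (Submodule.mem_inf.1 h1).2⟩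
      · obtain ⟨z, -, rfl⟩ := Finset.mem_image.1 h
        exact ⟨hTa _ z.2, ha _ z.2⟩
    · obtain ⟨hTm, hmN⟩ := hm
      have hz : q ⟨m, hmN⟩ ∈ Submodule.span K (Set.range fun z : {x // x ∈ t} => z.1) := by
        rw [show (Set.range fun z : {x // x ∈ t} => z.1) = (t : Set V) from Subtype.range_coe, ht]
        exact ⟨m, hmN, hTm, rfl⟩
      obtain ⟨c, hc⟩ := (Submodule.mem_span_range_iff_exists_fun K).1 hz
      choose r hr hrc using fun z : {x // x ∈ t} => hlift _ (c z).2
      let m' : M := ∑ z : {x // x ∈ t}, r z • a z.1 z.2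
      have hm'N : m' ∈ N := Submodule.sum_mem _ fun z _ => N.smul_mem _ (ha _ z.2)
      have hTm' : T m' = m' := by
        simp only [m', map_sum, LinearMap.map_smulₛₗ, hr, hTa]
      have hqm' : q ⟨m', hm'N⟩ = q ⟨m, hmN⟩ := by
        rw [← hc, show (⟨m', hm'N⟩ : N) = ∑ z : {x // x ∈ t}, r z • (⟨a z.1 z.2, ha _ z.2⟩ : N) from
          Subtype.ext (by simp [m']), map_sum]
        refine Finset.sum_congr rfl fun z _ => ?_
        rw [hq, hrc, hqa]
        rfl
      have h1 := (hker (⟨m, hmN⟩ - ⟨m', hm'N⟩ : N)).1 (by rw [map_sub, hqm', sub_self])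
      rw [bot_sup_eq] at h1
      obtain ⟨c', -, hc'⟩ := mem_span_smul h1
      have h2' : m - m' ∈ Submodule.span R₀ (s' : Set M) := by
        rw [hs']
        refine ⟨show T (m - m') = m - m' by rw [map_sub, hTm', show T m = m from hTm], ?_⟩
        refine (Submodule.restrictScalars_mem R₀ ((Ideal.span {p} : Ideal R) • N) (m - m')).2 ?_
        rw [show m - m' = p • (c' : M) from (congrArg Subtype.val hc').symm]
        exact Submodule.smul_mem_smul (Ideal.mem_span_singleton_self p) c'.2
      rw [show m = (m - m') + m' by abel, Finset.coe_union]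
      refine add_mem (Submodule.span_mono Set.subset_union_left h2') ?_
      refine Submodule.sum_mem _ fun z _ => Submodule.smul_mem _ (⟨r z, hr z⟩ : R₀) (Submodule.subset_span (Or.inr ?_))
      exact Finset.mem_coe.2 (Finset.mem_image.2 ⟨z, Finset.mem_attach _ _, rfl⟩)
  obtain ⟨s, hs⟩ := hfg
  refine ⟨s, fun m hm => (hs ▸ Submodule.subset_span hm : m ∈ F ⊓ _).1, fun m hm => ?_⟩
  have h1 : m ∈ Submodule.span R₀ (s : Set M) := hs ▸ ⟨hm, trivial⟩
  obtain ⟨c, hc⟩ := Submodule.mem_span_finset.1 h1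
  exact ⟨fun x => (c x : R), fun x _ => (c x).2, hc.2.symm⟩

end Loc

end Groth.Agent.SigmaLinLib
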