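import Mathlib

/-!
# Semilinear endomorphisms of finite-dimensional vector spaces
-/

namespace Groth.Agent.SigmaLinLib

universe u v

variable {k : Type u} [Field k] {σ : k →+* k} {V : Type v} [AddCommGroup V] [Module k V] (T : V →ₛₗ[σ] V)

abbrev W (n : ℕ) : Submodule k V := Submodule.span k (Set.range ((⇑T)^[n]))

theorem iter_smul (n : ℕ) (c : k) (v : V) : (⇑T)^[n] (c • v) = (⇑σ)^[n] c • (⇑T)^[n] v := by
  induction n with
  | zero => rfl
  | succ n ih => simp [Function.iterate_succ_apply', ih]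

theorem iter_add (n : ℕ) (v w : V) : (⇑T)^[n] (v + w) = (⇑T)^[n] v + (⇑T)^[n] w := by
  induction n with
  | zero => rfl
  | succ n ih => simp [Function.iterate_succ_apply', ih]

theorem iter_sub (n : ℕ) (v w : V) : (⇑T)^[n] (v - w) = (⇑T)^[n] v - (⇑T)^[n] w := by
  induction n with
  | zero => rfl
  | succ n ih => simp [Function.iterate_succ_apply', ih]

theorem iter_zero (n : ℕ) : (⇑T)^[n] 0 = 0 := by
  induction n with
  | zero => rfl
  | succ n ih => simp [Function.iterate_succ_apply', ih]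

theorem iter_sum {ι : Type*} (n : ℕ) (s : Finset ι) (f : ι → V) :
    (⇑T)^[n] (∑ i ∈ s, f i) = ∑ i ∈ s, (⇑T)^[n] (f i) := by
  classical
  induction s using Finset.induction with
  | empty => simp [iter_zero]
  | insert a s ha ih => rw [Finset.sum_insert ha, Finset.sum_insert ha, iter_add, ih]

theorem W_succ_le (n : ℕ) : W T (n + 1) ≤ W T n := by
  refine Submodule.span_mono ?_
  rintro _ ⟨v, rfl⟩
  exact ⟨T v, (Function.iterate_succ_apply _ _ _).symm⟩

theorem W_antitone : Antitone (W T) := antitone_nat_of_succ_le (W_succ_le T)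

theorem map_mem_W_succ {n : ℕ} {v : V} (hv : v ∈ W T n) : T v ∈ W T (n + 1) := by
  induction hv using Submodule.span_induction with
  | mem x hx =>
    obtain ⟨w, rfl⟩ := hx
    exact Submodule.subset_span ⟨w, Function.iterate_succ_apply' _ _ _⟩
  | zero => simp
  | add x y _ _ hx hy => rw [map_add]; exact add_mem hx hy
  | smul c x _ hx => rw [LinearMap.map_smulₛₗ]; exact Submodule.smul_mem _ _ hx

theorem W_succ_eq (n : ℕ) : W T (n + 1) = Submodule.span k (T '' (W T n : Set V)) := by
  refine le_antisymm (Submodule.span_mono ?_) (Submodule.span_le.2 ?_)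
  · rintro _ ⟨v, rfl⟩
    exact ⟨(⇑T)^[n] v, Submodule.subset_span ⟨v, rfl⟩, (Function.iterate_succ_apply' _ _ _).symm⟩
  · rintro _ ⟨v, hv, rfl⟩
    exact map_mem_W_succ T hv

theorem exists_stable [FiniteDimensional k V] : ∃ N, ∀ n ≥ N, W T n = W T N := by
  obtain ⟨N, hN⟩ := IsArtinian.monotone_stabilizes (R := k) (M := V) ⟨fun n => OrderDual.toDual (W T n), W_antitone T⟩
  exact ⟨N, fun n hn => (congrArg OrderDual.ofDual (hN n hn)).symm⟩

theorem iInf_W {N : ℕ} (hN : ∀ n ≥ N, W T n = W T N) : (⨅ n, W T n) = W T N := by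
  refine le_antisymm (iInf_le _ N) (le_iInf fun n => ?_)
  rcases le_total n N with h | h
  · exact W_antitone T h
  · rw [hN n h]

/-- `T` is injective on a finite-dimensional subspace spanned by its own image. -/
theorem injOn_of_span_image_eq {U : Submodule k V} [FiniteDimensional k U]
    (h : Submodule.span k (T '' (U : Set V)) = U) {v : V} (hv : v ∈ U) (hTv : T v = 0) : v = 0 := by
  let b := Module.finBasis k U
  have hmem : ∀ i, T (b i : V) ∈ U := fun i => h.le (Submodule.subset_span ⟨(b i : V), (b i).2, rfl⟩)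
  let g : Fin (Module.finrank k U) → U := fun i => ⟨T (b i : V), hmem i⟩
  have hexp : ∀ x : U, T (x : V) = ((∑ i, σ (b.repr x i) • g i : U) : V) := fun x => by
    conv_lhs => rw [← b.sum_repr x]
    simp only [g, Submodule.coe_sum, SetLike.val_smul, map_sum, LinearMap.map_smulₛₗ]
  have hspan : ⊤ ≤ Submodule.span k (Set.range g) := fun x _ => by
    have h1 : (x : V) ∈ Submodule.span k (T '' (U : Set V)) := h.symm ▸ x.2
    have h2 : Submodule.span k (T '' (U : Set V)) ≤ (Submodule.span k (Set.range g)).map U.subtype :=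
      Submodule.span_le.2 fun _ ⟨y, hy, hyx⟩ => ⟨∑ i, σ (b.repr ⟨y, hy⟩ i) • g i,
        Submodule.sum_mem _ fun i _ => Submodule.smul_mem _ _ (Submodule.subset_span ⟨i, rfl⟩),
        (hexp ⟨y, hy⟩).symm.trans hyx⟩
    obtain ⟨z, hz, hzx⟩ := h2 h1
    rwa [← Subtype.ext (a1 := z) (a2 := x) hzx]
  have hind := linearIndependent_of_top_le_span_of_card_eq_finrank hspan (Fintype.card_fin _)
  have h0 := Fintype.linearIndependent_iff.1 hind (fun i => σ (b.repr ⟨v, hv⟩ i))
    (Subtype.ext ((hexp ⟨v, hv⟩).symm.trans hTv))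
  have : b.repr ⟨v, hv⟩ = 0 := Finsupp.ext fun i => σ.injective ((h0 i).trans (map_zero σ).symm)
  exact congrArg Subtype.val (b.repr.map_eq_zero_iff.1 this)

theorem span_image_stable {N : ℕ} (hN : ∀ n ≥ N, W T n = W T N) :
    Submodule.span k (T '' (W T N : Set V)) = W T N := by
  rw [← W_succ_eq, hN _ N.le_succ]

/-- The intersection of the spans of the images meets the locally nilpotent part only in `0`. -/
theorem eq_zero_of_nil [FiniteDimensional k V] {v : V} (hnil : ∃ n, (⇑T)^[n] v = 0) (hss : ∀ n, v ∈ W T n) :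
    v = 0 := by
  obtain ⟨N, hN⟩ := exists_stable T
  obtain ⟨m, hm⟩ := hnil
  have hmem : ∀ (j : ℕ), ∀ w ∈ W T N, (⇑T)^[j] w ∈ W T N := by
    intro j
    induction j with
    | zero => exact fun w hw => hw
    | succ j ih =>
      intro w hw
      rw [Function.iterate_succ_apply']
      exact (hN _ N.le_succ) ▸ map_mem_W_succ T (ih w hw)
  have key : ∀ (j : ℕ), ∀ w ∈ W T N, (⇑T)^[j] w = 0 → w = 0 := fun j => by
    induction j with
    | zero => exact fun w _ h => h
    | succ j ih => exact fun w hw h => ih w hw (injOn_of_span_image_eq T (span_image_stable T hN) (hmem j w hw)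
        (by rwa [Function.iterate_succ_apply'] at h))
  exact key m v (hss N) hm

theorem range_iter_eq (hσ : Function.Surjective σ) (n : ℕ) : (W T n : Set V) = Set.range ((⇑T)^[n]) := by
  refine Set.Subset.antisymm (fun x hx => ?_) Submodule.subset_span
  induction hx using Submodule.span_induction with
  | mem x hx => exact hx
  | zero => exact ⟨0, iter_zero T n⟩
  | add x y _ _ hx hy =>
    obtain ⟨a, rfl⟩ := hx
    obtain ⟨b, rfl⟩ := hy
    exact ⟨a + b, iter_add T n a b⟩
  | smul c x _ hx =>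
    obtain ⟨a, rfl⟩ := hx
    obtain ⟨d, rfl⟩ := (hσ.iterate n) c
    exact ⟨d • a, iter_smul T n d a⟩

theorem bijOn_iInf [FiniteDimensional k V] (hσ : Function.Surjective σ) :
    Set.BijOn T (⨅ n, W T n : Submodule k V) (⨅ n, W T n : Submodule k V) := by
  obtain ⟨N, hN⟩ := exists_stable T
  rw [iInf_W T hN]
  refine ⟨fun v hv => (hN _ N.le_succ) ▸ map_mem_W_succ T hv, fun a ha b hb h => ?_, fun v hv => ?_⟩
  · exact sub_eq_zero.1 (injOn_of_span_image_eq T (span_image_stable T hN) (sub_mem ha hb)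
      (by rw [map_sub, h, sub_self]))
  · have hv' : v ∈ (W T (N + (N + 1)) : Set V) := by rw [hN _ (by omega)]; exact hv
    rw [range_iter_eq T hσ] at hv'
    obtain ⟨w, rfl⟩ := hv'
    refine ⟨(⇑T)^[N + N] w, ?_, ?_⟩
    · rw [Function.iterate_add_apply]
      exact Submodule.subset_span ⟨_, rfl⟩
    · rw [← Function.iterate_succ_apply' (⇑T)]
      rfl

theorem exists_decomp [FiniteDimensional k V] (hσ : Function.Surjective σ) :
    ∃ U : Submodule k V, (U : Set V) = {v | ∃ n, (⇑T)^[n] v = 0} ∧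
      (∃ N, ∀ v ∈ U, (⇑T)^[N] v = 0) ∧ IsCompl U (⨅ n, W T n) := by
  let U : Submodule k V :=
    { carrier := {v | ∃ n, (⇑T)^[n] v = 0}
      add_mem' := by
        rintro a b ⟨m, hm⟩ ⟨n, hn⟩
        refine ⟨m + n, ?_⟩
        rw [iter_add]
        nth_rw 1 [Nat.add_comm m n]
        rw [Function.iterate_add_apply, hm, iter_zero, Function.iterate_add_apply, hn, iter_zero, add_zero]
      zero_mem' := ⟨0, rfl⟩
      smul_mem' := by
        rintro c a ⟨m, hm⟩
        exact ⟨m, by rw [iter_smul, hm, smul_zero]⟩ }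
  obtain ⟨N, hN⟩ := exists_stable T
  have hbij := bijOn_iInf T hσ
  rw [iInf_W T hN] at hbij ⊢
  have hsurjN : ∀ j : ℕ, ∀ w ∈ W T N, ∃ u ∈ W T N, (⇑T)^[j] u = w := fun j => by
    induction j with
    | zero => exact fun w hw => ⟨w, hw, rfl⟩
    | succ j ih =>
      intro w hw
      obtain ⟨u, hu, rfl⟩ := ih w hw
      obtain ⟨u', hu', rfl⟩ := hbij.surjOn hu
      exact ⟨u', hu', Function.iterate_succ_apply _ _ _⟩
  have hsplit : ∀ v, ∃ u ∈ W T N, (⇑T)^[N] (v - u) = 0 := fun v => by
    obtain ⟨u, hu, h⟩ := hsurjN N ((⇑T)^[N] v) (Submodule.subset_span ⟨v, rfl⟩)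
    exact ⟨u, hu, by rw [iter_sub, h, sub_self]⟩
  have hdis : ∀ v, (∃ n, (⇑T)^[n] v = 0) → v ∈ W T N → v = 0 := fun v hv hvW =>
    eq_zero_of_nil T hv fun n => by
      rcases le_total n N with h | h
      · exact W_antitone T h hvW
      · rw [hN n h]; exact hvW
  refine ⟨U, rfl, ⟨N, fun v hv => ?_⟩, ?_⟩
  · obtain ⟨u, hu, h⟩ := hsplit v
    have hu0 : u = 0 := hdis u (by
      have := sub_mem hv (show v - u ∈ U from ⟨N, h⟩)
      rwa [sub_sub_cancel] at this) hu
    rwa [hu0, sub_zero] at h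
  · refine ⟨Submodule.disjoint_def.2 fun v hv hvW => hdis v hv hvW, codisjoint_iff.2 (eq_top_iff.2 fun v _ => ?_)⟩
    obtain ⟨u, hu, h⟩ := hsplit v
    exact Submodule.mem_sup.2 ⟨v - u, ⟨N, h⟩, u, hu, sub_add_cancel v u⟩

/-- The solvability hypothesis on `σ`. -/
def H2 (σ : k →+* k) : Prop := ∀ (n : ℕ) (b : Fin (n + 1) → k), b ≠ 0 →
  ∃ x : k, x ≠ 0 ∧ x = ∑ i : Fin (n + 1), (⇑σ)^[i.val + 1] x * (⇑σ)^[i.val] (b (Fin.rev i))

theorem exists_fixed_in_orbit [FiniteDimensional k V] (h2 : H2 σ) (e : V) (he : ∀ m, (⇑T)^[m] e ≠ 0) :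
    ∃ v ∈ Submodule.span k (Set.range (fun m : ℕ => (⇑T)^[m] e)), v ≠ 0 ∧ T v = v := by
  classical
  let f : ℕ → V := fun m => (⇑T)^[m] e
  have hex : ∃ m, ¬ LinearIndependent k (fun i : Fin m => f i) := ⟨Module.finrank k V + 1, fun h => by
    have := h.fintype_card_le_finrank
    simp at this⟩
  obtain ⟨n, hn, hn'⟩ : ∃ n, LinearIndependent k (fun i : Fin (n + 1) => f i) ∧
      f (n + 1) ∈ Submodule.span k (Set.range fun i : Fin (n + 1) => f i) := by
    let m := Nat.find hex
    have hm : ¬ LinearIndependent k (fun i : Fin m => f i) := Nat.find_spec hex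
    have hlt : ∀ l < m, LinearIndependent k (fun i : Fin l => f i) := fun l hl => not_not.1 (Nat.find_min hex hl)
    have h2' : 2 ≤ m := by
      by_contra h
      interval_cases m
      · exact hm linearIndependent_empty_type
      · refine hm (Fintype.linearIndependent_iff.2 fun g hg i => ?_)
        simp only [Fin.sum_univ_one] at hg
        rw [Fin.fin_one_eq_zero i]
        exact (smul_eq_zero.1 hg).resolve_right (he 0)
    obtain ⟨n, hmn⟩ : ∃ n, m = n + 2 := ⟨m - 2, by omega⟩
    refine ⟨n, hlt _ (by omega), ?_⟩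
    by_contra hni
    refine hm ?_
    rw [hmn]
    have e1 : (fun i : Fin (n + 2) => f i) = Fin.snoc (fun i : Fin (n + 1) => f i) (f (n + 1)) := by
      funext i
      induction i using Fin.lastCases <;> simp
    rw [e1]
    exact linearIndependent_finSnoc.2 ⟨hlt _ (by omega), hni⟩
  obtain ⟨a, ha⟩ := (Submodule.mem_span_range_iff_exists_fun k).1 hn'
  have ha0 : a ≠ 0 := fun h => he (n + 1) (by
    show f (n + 1) = 0
    rw [← ha, h]; simp)
  obtain ⟨x, hx0, hx⟩ := h2 n a ha0
  -- the coefficients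
  let c : ℕ → k := Nat.rec (σ x * a 0) (fun i ci => σ ci + σ x * a (Fin.ofNat (n + 1) (i + 1)))
  have hc0 : c 0 = σ x * a 0 := rfl
  have hcs : ∀ i, c (i + 1) = σ (c i) + σ x * a (Fin.ofNat (n + 1) (i + 1)) := fun i => rfl
  have hclosed : ∀ i, i ≤ n → c i = ∑ l ∈ Finset.range (i + 1), (⇑σ)^[l] (σ x * a (Fin.ofNat (n + 1) (i - l))) := by
    intro i
    induction i with
    | zero => intro _; simp [hc0]
    | succ i ih =>
      intro hi
      rw [hcs, ih (by omega), map_sum, Finset.sum_range_succ' _ (i + 1)]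
      simp [Function.iterate_succ_apply']
  have hcn : c n = x := by
    rw [hclosed n le_rfl, Finset.sum_range]
    conv_rhs => rw [hx]
    refine Finset.sum_congr rfl fun l _ => ?_
    rw [iterate_map_mul, ← Function.iterate_succ_apply]
    congr 3
    ext
    simp [Fin.ofNat, Fin.val_rev, Nat.mod_eq_of_lt (show n - l.val < n + 1 by omega)]
  refine ⟨∑ i : Fin (n + 1), c i • f i, Submodule.sum_mem _ fun i _ => Submodule.smul_mem _ _
    (Submodule.subset_span ⟨i, rfl⟩), fun h => ?_, ?_⟩
  · have h1 : c n = 0 := Fintype.linearIndependent_iff.1 hn (fun i => c i) h (Fin.last n)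
    exact hx0 (hcn ▸ h1)
  · rw [map_sum]
    simp only [LinearMap.map_smulₛₗ]
    have hTf : ∀ i, T (f i) = f (i + 1) := fun i => (Function.iterate_succ_apply' _ _ _).symm
    simp only [hTf]
    rw [Fin.sum_univ_castSucc]
    simp only [Fin.val_castSucc, Fin.val_last, hcn]
    rw [← ha, Finset.smul_sum, Fin.sum_univ_succ (f := fun i : Fin (n + 1) => σ x • a i • f i),
      Fin.sum_univ_succ (f := fun i : Fin (n + 1) => c i • f i), add_left_comm, ← Finset.sum_add_distrib]
    congr 1
    · rw [smul_smul]; rfl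
    · refine Finset.sum_congr rfl fun i _ => ?_
      rw [Fin.val_succ, hcs, add_smul, smul_smul]
      congr
      ext
      simp [Fin.ofNat, Nat.mod_eq_of_lt (show i.val + 1 < n + 1 by omega)]

theorem fixed_basis : ∀ (n : ℕ) {V : Type v} [AddCommGroup V] [Module k V] [FiniteDimensional k V],
    Module.finrank k V = n → H2 σ → (∀ c : k, ∃ y : k, σ y - y + c = 0) →
    ∀ (T : V →ₛₗ[σ] V), Submodule.span k (Set.range T) = ⊤ → Submodule.span k {v : V | T v = v} = ⊤
  | 0, V, _, _, _, hn, _, _, T, _ => by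
    have : Subsingleton V := Module.finrank_zero_iff.1 hn
    exact eq_top_iff.2 fun v _ => by rw [Subsingleton.elim v 0]; exact zero_mem _
  | n + 1, V, _, _, _, hn, h2, h3, T, hspan => by
    have : Nontrivial V := Module.nontrivial_of_finrank_eq_succ hn
    obtain ⟨e, he⟩ := exists_ne (0 : V)
    have hinj : ∀ v, T v = 0 → v = 0 := fun v hv => injOn_of_span_image_eq T (U := ⊤)
      (by rw [Submodule.top_coe, Set.image_univ, hspan]) trivial hv
    have he' : ∀ m, (⇑T)^[m] e ≠ 0 := fun m => by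
      induction m with
      | zero => exact he
      | succ m ih => rw [Function.iterate_succ_apply']; exact fun h => ih (hinj _ h)
    obtain ⟨w, -, hw0, hw⟩ := exists_fixed_in_orbit T h2 e he'
    let L := Submodule.span k {w}
    have hL : L ≤ L.comap T := (Submodule.span_singleton_le_iff_mem _ _).2 (by
      show T w ∈ L
      rw [hw]; exact Submodule.mem_span_singleton_self w)
    let T' : V ⧸ L →ₛₗ[σ] V ⧸ L := Submodule.mapQ L L T hL
    have hspan' : Submodule.span k (Set.range T') = ⊤ := by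
      rw [eq_top_iff, ← Submodule.map_top L.mkQ |>.trans (Submodule.range_mkQ L), ← hspan, Submodule.map_span]
      refine Submodule.span_mono ?_
      rintro _ ⟨_, ⟨v, rfl⟩, rfl⟩
      exact ⟨L.mkQ v, rfl⟩
    have hdim : Module.finrank k (V ⧸ L) = n := by
      have := L.finrank_quotient_add_finrank
      rw [finrank_span_singleton hw0, hn] at this
      omega
    have ih := fixed_basis n hdim h2 h3 T' hspan'
    have hlift : ∀ z : V ⧸ L, T' z = z → ∃ v, L.mkQ v = z ∧ T v = v := fun z hz => by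
      obtain ⟨v, rfl⟩ := L.mkQ_surjective z
      obtain ⟨b, hb⟩ := Submodule.mem_span_singleton.1 ((Submodule.Quotient.eq L).1 hz : T v - v ∈ L)
      obtain ⟨c, hc⟩ := h3 b
      refine ⟨v + c • w, ?_, ?_⟩
      · rw [map_add, Submodule.mkQ_apply, Submodule.mkQ_apply, (Submodule.Quotient.mk_eq_zero L).2
          (Submodule.smul_mem _ _ (Submodule.mem_span_singleton_self w)), add_zero]
      · rw [map_add, LinearMap.map_smulₛₗ, hw, show T v = v + b • w by rw [hb]; abel,
          show σ c = c - b by linear_combination hc, sub_smul]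
        abel
    let F := Submodule.span k {v : V | T v = v}
    have hwF : L ≤ F := (Submodule.span_singleton_le_iff_mem _ _).2 (Submodule.subset_span hw)
    have hmap : F.map L.mkQ = ⊤ := by
      rw [eq_top_iff, ← ih, Submodule.span_le]
      intro z hz
      obtain ⟨v, hv, hTv⟩ := hlift z hz
      exact ⟨v, Submodule.subset_span hTv, hv⟩
    refine eq_top_iff.2 fun v _ => ?_
    obtain ⟨u, hu, huv⟩ := hmap.ge (Submodule.mem_top (x := L.mkQ v))
    have := add_mem hu (hwF ((Submodule.Quotient.eq L).1 huv.symm))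
    rwa [add_sub_cancel] at this

theorem exists_fixed_basis [FiniteDimensional k V] (h1 : Submodule.span k (Set.range T) = ⊤) (h2 : H2 σ)
    (h3 : ∀ c : k, ∃ y : k, σ y - y + c = 0) :
    (∃ b : Module.Basis (Fin (Module.finrank k V)) k V, ∀ i, T (b i) = b i) ∧
      Function.Surjective (fun v : V => v - T v) := by
  have hs := fixed_basis _ rfl h2 h3 T h1
  obtain ⟨s, hsub, hspan, hind⟩ := exists_linearIndependent k {v : V | T v = v}
  rw [hs] at hspan
  let b₀ : Module.Basis s k V := Module.Basis.mk hind (by rw [Subtype.range_coe, hspan])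
  have : Fintype s := FiniteDimensional.fintypeBasisIndex b₀
  let b := b₀.reindex (Fintype.equivFinOfCardEq (Module.finrank_eq_card_basis b₀).symm)
  have hb : ∀ i, T (b i) = b i := fun i => by
    simp only [b, Module.Basis.reindex_apply, b₀, Module.Basis.mk_apply]
    exact hsub (Subtype.coe_prop _)
  refine ⟨⟨b, hb⟩, fun v => ?_⟩
  choose y hy using h3
  refine ⟨∑ i, y (b.repr v i) • b i, ?_⟩
  show ∑ i, y (b.repr v i) • b i - T (∑ i, y (b.repr v i) • b i) = v
  simp only [map_sum, LinearMap.map_smulₛₗ, hb, ← Finset.sum_sub_distrib, ← sub_smul]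
  conv_rhs => rw [← b.sum_repr v]
  exact Finset.sum_congr rfl fun i _ => by rw [show y (b.repr v i) - σ (y (b.repr v i)) = b.repr v i by
    linear_combination (norm := ring) -(hy (b.repr v i))]

theorem lang [FiniteDimensional k V] (hσ : Function.Surjective σ) (h2 : H2 σ)
    (h3 : ∀ c : k, ∃ y : k, σ y - y + c = 0) :
    Function.Surjective (fun v : V => v - T v) ∧
    ∃ b : Module.Basis (Fin (Module.finrank k ↥(⨅ n, W T n))) k ↥(⨅ n, W T n), ∀ i, T (b i : V) = (b i : V) := by
  obtain ⟨U, hU, ⟨N, hN⟩, hcompl⟩ := exists_decomp T hσ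
  have hbij := bijOn_iInf T hσ
  let T' : ↥(⨅ n, W T n) →ₛₗ[σ] ↥(⨅ n, W T n) :=
    (T.comp (⨅ n, W T n).subtype).codRestrict _ fun x => hbij.mapsTo x.2
  have h1 : Submodule.span k (Set.range T') = ⊤ := eq_top_iff.2 fun x _ => by
    obtain ⟨y, hy, hyx⟩ := hbij.surjOn x.2
    exact Submodule.subset_span ⟨⟨y, hy⟩, Subtype.ext hyx⟩
  obtain ⟨⟨b, hb⟩, hsurj⟩ := exists_fixed_basis T' h1 h2 h3
  refine ⟨fun v => ?_, b, fun i => congrArg Subtype.val (hb i)⟩
  obtain ⟨u, hu, w, hw, rfl⟩ := Submodule.mem_sup.1 (hcompl.codisjoint.eq_top.ge (Submodule.mem_top (x := v)))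
  obtain ⟨y, hy⟩ := hsurj ⟨w, hw⟩
  refine ⟨(∑ j ∈ Finset.range N, (⇑T)^[j] u) + (y : V), ?_⟩
  show _ - T _ = _
  rw [map_add, add_sub_add_comm, map_sum, ← Finset.sum_sub_distrib,
    show (∑ j ∈ Finset.range N, ((⇑T)^[j] u - T ((⇑T)^[j] u))) = u by
      simp only [← Function.iterate_succ_apply' (⇑T)]
      rw [Finset.sum_range_sub' (fun j => (⇑T)^[j] u), hN u hu, sub_zero]
      rfl]
  exact congrArg (u + ·) (congrArg Subtype.val hy)

theorem fixed_mem_iInf {v : V} (hv : T v = v) : v ∈ ⨅ n, W T n :=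
  Submodule.mem_iInf _ |>.2 fun n => Submodule.subset_span ⟨v, Function.iterate_fixed hv n⟩

end Groth.Agent.SigmaLinLib
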